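import Groth.Agent.HBDefLib.Dual
import Mathlib

/-! Glue for deformations of determinantal ideals. -/

set_option autoImplicit false
universe u v

open IsLocalRing TensorProduct

namespace HBDefLib

variable {C : Type u} [CommRing C] [IsLocalRing C] [IsArtinianRing C]

theorem isNilpotent_maximalIdeal : IsNilpotent (maximalIdeal C) :=
  IsLocalRing.jacobson_eq_maximalIdeal (R := C) ⊥ bot_ne_top ▸ IsArtinianRing.isNilpotent_jacobson_bot

theorem map_maximalIdeal_mk (J : Ideal C) [IsLocalRing (C ⧸ J)] :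
    (maximalIdeal C).map (Ideal.Quotient.mk J) = maximalIdeal (C ⧸ J) := by
  haveI : IsLocalHom (Ideal.Quotient.mk J) := IsLocalHom.of_surjective _ Ideal.Quotient.mk_surjective
  refine le_antisymm (IsLocalRing.map_maximalIdeal_le _) fun y hy => ?_
  obtain ⟨x, rfl⟩ := Ideal.Quotient.mk_surjective y
  exact Ideal.mem_map_of_mem _ fun hx => hy (hx.map _)

theorem flat_quotient (J : Ideal C) (A : Type u) [CommRing A] [Algebra C A] [Module.Flat C A] :
    Module.Flat (C ⧸ J) (A ⧸ J.map (algebraMap C A)) := by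
  let e : ((C ⧸ J) ⊗[C] A) ≃ₗ[C] A ⧸ J.map (algebraMap C A) :=
    (TensorProduct.quotTensorEquivQuotSMul A J).trans
      ((Submodule.quotEquivOfEq _ _ (Ideal.smul_top_eq_map J)).trans (Submodule.Quotient.restrictScalarsEquiv C _))
  exact Module.Flat.of_linearEquiv (e.extendScalarsOfSurjective Ideal.Quotient.mk_surjective).symm

variable {A : Type u} [CommRing A] [Algebra C A] {r : ℕ}

theorem exactMod_of_exact_quotient (J : Ideal C) (hJ : J ≠ ⊤) [Module.Flat C A] (φ : Matrix (Fin (r + 1)) (Fin r) A)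
    (hf : Function.Injective (φ.map (Ideal.Quotient.mk (J.map (algebraMap C A)))).mulVecLin)
    (hex : LinearMap.range (φ.map (Ideal.Quotient.mk (J.map (algebraMap C A)))).mulVecLin =
      LinearMap.ker (Fintype.linearCombination (A ⧸ J.map (algebraMap C A))
        (HBLib.minor (φ.map (Ideal.Quotient.mk (J.map (algebraMap C A)))))))
    [Module.Flat (C ⧸ J) ((A ⧸ J.map (algebraMap C A)) ⧸
      Ideal.span (Set.range (HBLib.minor (φ.map (Ideal.Quotient.mk (J.map (algebraMap C A)))))))] :
    ExactMod C φ := by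
  haveI : Nontrivial (C ⧸ J) := Ideal.Quotient.nontrivial_iff.2 hJ
  haveI : IsLocalRing (C ⧸ J) := IsLocalRing.of_surjective' _ Ideal.Quotient.mk_surjective
  haveI := flat_quotient J A
  refine ExactMod.of_map (D := C ⧸ J) _ Ideal.Quotient.mk_surjective
    (Ideal.mk_ker.trans_le (Ideal.map_mono (le_maximalIdeal hJ))) ?_
    (ExactMod.of_exact (C := C ⧸ J) ?_ _ hf hex)
  · rw [← map_maximalIdeal_mk, Ideal.map_map, Ideal.map_map]
    rfl
  · obtain ⟨n, hn⟩ := isNilpotent_maximalIdeal (C := C)
    exact ⟨n, by rw [← map_maximalIdeal_mk, ← Ideal.map_pow, hn, Ideal.zero_eq_bot, Ideal.map_bot]; rfl⟩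

theorem sup_eq_of_map_eq {R : Type u} [CommRing R] (K I I' : Ideal R)
    (h : I.map (Ideal.Quotient.mk K) = I'.map (Ideal.Quotient.mk K)) : I ⊔ K = I' ⊔ K := by
  have := congrArg (Ideal.comap (Ideal.Quotient.mk K)) h
  rwa [Ideal.comap_map_of_surjective' _ Ideal.Quotient.mk_surjective,
    Ideal.comap_map_of_surjective' _ Ideal.Quotient.mk_surjective, Ideal.mk_ker] at this

theorem map_span_minor {B : Type u} [CommRing B] (π : A →+* B) (φ : Matrix (Fin (r + 1)) (Fin r) A) :
    (Ideal.span (Set.range (HBLib.minor φ))).map π = Ideal.span (Set.range (HBLib.minor (φ.map π))) := by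
  rw [Ideal.map_span, minor_map, Set.range_comp]

omit [IsArtinianRing C] in
/-- Heights do not increase along surjections with nilpotent kernel. -/
theorem height_comap_le {R S : Type u} [CommRing R] [CommRing S] (π : R →+* S) (hπ : Function.Surjective π)
    (hker : IsNilpotent (RingHom.ker π)) (P : Ideal S) [P.IsPrime] : (P.comap π).height ≤ P.height := by
  have hle : ∀ Q : PrimeSpectrum R, RingHom.ker π ≤ Q.asIdeal := fun Q => by
    obtain ⟨n, hn⟩ := hker
    exact Q.2.le_of_pow_le (hn.le.trans bot_le)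
  let f : PrimeSpectrum R → PrimeSpectrum S := fun Q =>
    ⟨Q.asIdeal.map π, Ideal.map_isPrime_of_surjective hπ (hle Q)⟩
  have hf : ∀ Q, (f Q).asIdeal.comap π = Q.asIdeal := fun Q => by
    show (Q.asIdeal.map π).comap π = Q.asIdeal
    rw [Ideal.comap_map_of_surjective' π hπ, sup_eq_left.2 (hle Q)]
  have hmono : StrictMono f := fun Q Q' h => by
    refine lt_of_le_of_ne (Ideal.map_mono h.le) fun he => h.ne ?_
    exact PrimeSpectrum.ext (by rw [← hf Q, ← hf Q', he])
  rw [show (P.comap π).height = _ from PrimeSpectrum.height_eq_orderHeight (⟨P.comap π, inferInstance⟩ : PrimeSpectrum R),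
    show P.height = _ from PrimeSpectrum.height_eq_orderHeight (⟨P, inferInstance⟩ : PrimeSpectrum S)]
  refine (Order.height_le_height_apply_of_strictMono f hmono (⟨P.comap π, inferInstance⟩ : PrimeSpectrum R)).trans_eq ?_
  congr 1
  exact PrimeSpectrum.ext (Ideal.map_comap_of_surjective π hπ P)

end HBDefLib
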