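import Groth.Agent.DefLib.ArtFlat
import Groth.Agent.HBLib.Basic
import Mathlib

/-! Two-step resolutions of flat quotients over local rings with nilpotent maximal ideal. -/

set_option autoImplicit false
universe u v

open IsLocalRing TensorProduct

namespace HBDefLib

variable {C : Type u} [CommRing C] [IsLocalRing C]
  {M N P : Type v} [AddCommGroup M] [Module C M] [AddCommGroup N] [Module C N] [AddCommGroup P] [Module C P]

/-- A complex of flat modules that is exact modulo the maximal ideal is exact with flat cokernel. -/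
theorem exact_and_flat_of_mod (hnil : IsNilpotent (maximalIdeal C)) [Module.Flat C N] [Module.Flat C P]
    (f : M →ₗ[C] N) (g : N →ₗ[C] P) (hgf : g ∘ₗ f = 0)
    (h1 : ∀ x, f x ∈ maximalIdeal C • (⊤ : Submodule C N) → x ∈ maximalIdeal C • (⊤ : Submodule C M))
    (h2 : ∀ x, g x ∈ maximalIdeal C • (⊤ : Submodule C P) →
      x ∈ LinearMap.range f ⊔ maximalIdeal C • (⊤ : Submodule C N)) :
    Function.Injective f ∧ LinearMap.range f = LinearMap.ker g ∧ Module.Flat C (P ⧸ LinearMap.range g) := by
  obtain ⟨hf, hflat⟩ := DefLib.splitInjective_of_injective_mod hnil f h1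
  haveI := hflat
  have hle : LinearMap.range f ≤ LinearMap.ker g := by
    rintro _ ⟨x, rfl⟩
    exact LinearMap.congr_fun hgf x
  let g' : (N ⧸ LinearMap.range f) →ₗ[C] P := Submodule.liftQ _ g hle
  obtain ⟨hg', hflat'⟩ := DefLib.splitInjective_of_injective_mod hnil g' fun x hx => by
    obtain ⟨x, rfl⟩ := Submodule.Quotient.mk_surjective _ x
    have hm := Submodule.mem_map_of_mem (f := Submodule.mkQ (LinearMap.range f)) (h2 x hx)
    rw [Submodule.map_sup, Submodule.mkQ_map_self, bot_sup_eq, Submodule.map_smul''] at hm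
    exact (Submodule.smul_mono le_rfl le_top) hm
  refine ⟨hf, le_antisymm hle fun x hx => ?_, ?_⟩
  · exact (Submodule.Quotient.mk_eq_zero _).1 (hg' (((Submodule.liftQ_apply _ g x).trans hx).trans (map_zero g').symm))
  · rwa [Submodule.range_liftQ] at hflat'

/-- A two-step resolution of a flat quotient stays exact modulo the maximal ideal. -/
theorem mod_of_exact_and_flat (hnil : IsNilpotent (maximalIdeal C)) [Module.Flat C P]
    (f : M →ₗ[C] N) (g : N →ₗ[C] P) (hf : Function.Injective f) (hex : LinearMap.range f = LinearMap.ker g)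
    [Module.Flat C (P ⧸ LinearMap.range g)] :
    (∀ x, f x ∈ maximalIdeal C • (⊤ : Submodule C N) → x ∈ maximalIdeal C • (⊤ : Submodule C M)) ∧
    (∀ x, g x ∈ maximalIdeal C • (⊤ : Submodule C P) →
      x ∈ LinearMap.range f ⊔ maximalIdeal C • (⊤ : Submodule C N)) := by
  haveI : Module.Free C (P ⧸ LinearMap.range g) := DefLib.free_of_flat_of_nilpotent hnil
  obtain ⟨s, hs⟩ := Module.projective_lifting_property (LinearMap.range g).mkQ LinearMap.id
    (Submodule.mkQ_surjective _)
  let r : P →ₗ[C] LinearMap.range g := LinearMap.codRestrict _ (LinearMap.id - s ∘ₗ (LinearMap.range g).mkQ) fun p => by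
    rw [← Submodule.Quotient.mk_eq_zero]
    change Submodule.mkQ _ (p - s (Submodule.mkQ _ p)) = 0
    rw [map_sub, show Submodule.mkQ _ (s (Submodule.mkQ _ p)) = Submodule.mkQ _ p from LinearMap.congr_fun hs _,
      sub_self]
  haveI : Module.Flat C (LinearMap.range g) :=
    Module.Flat.of_retract (LinearMap.range g).subtype r (LinearMap.ext fun x => Subtype.ext (by
      simp [r, (Submodule.Quotient.mk_eq_zero _).2 x.2]))
  refine ⟨fun x hx => ?_, fun x hx => ?_⟩
  · have hk : LinearMap.ker g.rangeRestrict = LinearMap.range f := by rw [LinearMap.ker_rangeRestrict, hex]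
    have := DefLib.ker_inf_smul_le g.rangeRestrict g.surjective_rangeRestrict (maximalIdeal C)
      ⟨hk.ge ⟨x, rfl⟩, hx⟩
    rw [hk, LinearMap.range_eq_map, ← Submodule.map_smul''] at this
    obtain ⟨y, hy, hyx⟩ := this
    rwa [← hf hyx]
  · have := DefLib.ker_inf_smul_le (LinearMap.range g).mkQ (Submodule.mkQ_surjective _) (maximalIdeal C)
      ⟨(Submodule.Quotient.mk_eq_zero _).2 ⟨x, rfl⟩, hx⟩
    rw [Submodule.ker_mkQ, LinearMap.range_eq_map g, ← Submodule.map_smul''] at this
    obtain ⟨y, hy, hyx⟩ := this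
    refine Submodule.mem_sup.2 ⟨x - y, ?_, y, hy, by abel⟩
    rw [hex, LinearMap.mem_ker, map_sub, hyx, sub_self]

theorem mem_smul_top_pi {A : Type v} [CommRing A] [Algebra C A] (I : Ideal C) {n : ℕ} (x : Fin n → A) :
    x ∈ I • (⊤ : Submodule C (Fin n → A)) ↔ ∀ i, x i ∈ I.map (algebraMap C A) := by
  have hI : ∀ y : A, y ∈ I • (⊤ : Submodule C A) ↔ y ∈ I.map (algebraMap C A) := fun y => by
    rw [Ideal.smul_top_eq_map]; rfl
  constructor
  · intro hx i
    rw [← hI]
    have := Submodule.mem_map_of_mem (f := (LinearMap.proj i : (Fin n → A) →ₗ[C] A)) hx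
    rw [Submodule.map_smul''] at this
    exact (Submodule.smul_mono le_rfl le_top) this
  · intro hx
    rw [← Finset.univ_sum_single x]
    refine sum_mem fun i _ => ?_
    have := Submodule.mem_map_of_mem (f := LinearMap.single C (fun _ : Fin n => A) i) ((hI _).2 (hx i))
    rw [Submodule.map_smul''] at this
    exact (Submodule.smul_mono le_rfl le_top) this

theorem mem_smul_top_self {A : Type v} [CommRing A] [Algebra C A] (I : Ideal C) (y : A) :
    y ∈ I • (⊤ : Submodule C A) ↔ y ∈ I.map (algebraMap C A) := by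
  rw [Ideal.smul_top_eq_map]; rfl

section Matrix

open Matrix

variable {A : Type v} [CommRing A] [Algebra C A] {r : ℕ}

theorem linearCombination_minor_comp (φ : Matrix (Fin (r + 1)) (Fin r) A) (v : Fin r → A) :
    Fintype.linearCombination A (HBLib.minor φ) (φ *ᵥ v) = 0 := by
  rw [Fintype.linearCombination_apply]
  show (φ *ᵥ v) ⬝ᵥ HBLib.minor φ = 0
  rw [dotProduct_comm, dotProduct_mulVec, HBLib.vecMul_minor, zero_dotProduct]

/-- The conditions modulo the maximal ideal. -/
def ExactMod (C : Type u) [CommRing C] [IsLocalRing C] [Algebra C A] (φ : Matrix (Fin (r + 1)) (Fin r) A) : Prop :=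
  (∀ v, (∀ i, (φ *ᵥ v) i ∈ (maximalIdeal C).map (algebraMap C A)) →
      ∀ j, v j ∈ (maximalIdeal C).map (algebraMap C A)) ∧
  ∀ x, Fintype.linearCombination A (HBLib.minor φ) x ∈ (maximalIdeal C).map (algebraMap C A) →
      ∃ v, ∀ i, x i - (φ *ᵥ v) i ∈ (maximalIdeal C).map (algebraMap C A)

theorem ExactMod.exact_and_flat (hnil : IsNilpotent (maximalIdeal C)) [Module.Flat C A]
    {φ : Matrix (Fin (r + 1)) (Fin r) A} (h : ExactMod C φ) :
    Function.Injective φ.mulVecLin ∧
      LinearMap.range φ.mulVecLin = LinearMap.ker (Fintype.linearCombination A (HBLib.minor φ)) ∧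
      Module.Flat C (A ⧸ Ideal.span (Set.range (HBLib.minor φ))) := by
  let f := φ.mulVecLin.restrictScalars C
  let g := (Fintype.linearCombination A (HBLib.minor φ)).restrictScalars C
  haveI : Module.Free C A := DefLib.free_of_flat_of_nilpotent hnil
  obtain ⟨hf, hex, hflat⟩ := exact_and_flat_of_mod hnil f g
    (LinearMap.ext fun v => linearCombination_minor_comp φ v)
    (fun v hv => (mem_smul_top_pi _ v).2 (h.1 v ((mem_smul_top_pi _ _).1 hv)))
    (fun x hx => by
      obtain ⟨v, hv⟩ := h.2 x ((mem_smul_top_self _ _).1 hx)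
      exact Submodule.mem_sup.2 ⟨f v, ⟨v, rfl⟩, x - f v, (mem_smul_top_pi _ _).2 hv, add_sub_cancel _ _⟩)
  refine ⟨hf, SetLike.ext fun x => SetLike.ext_iff.1 hex x, ?_⟩
  have hr : LinearMap.range g = (Ideal.span (Set.range (HBLib.minor φ))).restrictScalars C := by
    rw [LinearMap.range_restrictScalars, Fintype.range_linearCombination]
  rw [hr] at hflat
  haveI := hflat
  exact Module.Flat.of_linearEquiv (Submodule.Quotient.restrictScalarsEquiv C _).symm

theorem ExactMod.of_exact (hnil : IsNilpotent (maximalIdeal C)) [Module.Flat C A]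
    (φ : Matrix (Fin (r + 1)) (Fin r) A) (hf : Function.Injective φ.mulVecLin)
    (hex : LinearMap.range φ.mulVecLin = LinearMap.ker (Fintype.linearCombination A (HBLib.minor φ)))
    [Module.Flat C (A ⧸ Ideal.span (Set.range (HBLib.minor φ)))] : ExactMod C φ := by
  let f := φ.mulVecLin.restrictScalars C
  let g := (Fintype.linearCombination A (HBLib.minor φ)).restrictScalars C
  haveI : Module.Flat C (A ⧸ LinearMap.range g) := by
    have hr : LinearMap.range g = (Ideal.span (Set.range (HBLib.minor φ))).restrictScalars C := by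
      rw [LinearMap.range_restrictScalars, Fintype.range_linearCombination]
    rw [hr]
    exact Module.Flat.of_linearEquiv (Submodule.Quotient.restrictScalarsEquiv C _)
  obtain ⟨h1, h2⟩ := mod_of_exact_and_flat hnil f g hf (SetLike.ext fun x => SetLike.ext_iff.1 hex x)
  refine ⟨fun v hv => (mem_smul_top_pi _ v).1 (h1 v ((mem_smul_top_pi _ _).2 hv)), fun x hx => ?_⟩
  obtain ⟨_, ⟨v, rfl⟩, z, hz, hzx⟩ := Submodule.mem_sup.1 (h2 x ((mem_smul_top_self _ _).2 hx))
  refine ⟨v, fun i => ?_⟩
  rw [← hzx, Pi.add_apply, show (f v) i = (φ *ᵥ v) i from rfl, add_sub_cancel_left]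
  exact (mem_smul_top_pi _ _).1 hz i

theorem minor_map {B : Type v} [CommRing B] (π : A →+* B) (φ : Matrix (Fin (r + 1)) (Fin r) A) :
    HBLib.minor (φ.map π) = π ∘ HBLib.minor φ := by
  funext i
  rw [Function.comp_apply, HBLib.minor, HBLib.minor, map_mul, RingHom.map_det, RingHom.mapMatrix_apply,
    Matrix.submatrix_map, map_pow, map_neg, map_one]

/-- The conditions only depend on the reduction modulo a smaller ideal. -/
theorem ExactMod.of_map {D : Type u} [CommRing D] [IsLocalRing D] {B : Type v} [CommRing B] [Algebra D B]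
    (π : A →+* B) (hπ : Function.Surjective π) (hker : RingHom.ker π ≤ (maximalIdeal C).map (algebraMap C A))
    (hm : ((maximalIdeal C).map (algebraMap C A)).map π = (maximalIdeal D).map (algebraMap D B))
    {φ : Matrix (Fin (r + 1)) (Fin r) A} (h : ExactMod D (φ.map π)) : ExactMod C φ := by
  have hmem : ∀ a : A, π a ∈ (maximalIdeal D).map (algebraMap D B) → a ∈ (maximalIdeal C).map (algebraMap C A) := by
    intro a ha
    rw [← hm, ← Ideal.mem_comap, Ideal.comap_map_of_surjective' π hπ, sup_eq_left.2 hker] at ha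
    exact ha
  have hmem' : ∀ a ∈ (maximalIdeal C).map (algebraMap C A), π a ∈ (maximalIdeal D).map (algebraMap D B) :=
    fun a ha => hm ▸ Ideal.mem_map_of_mem π ha
  refine ⟨fun v hv j => hmem _ (h.1 (π ∘ v) (fun i => ?_) j), fun x hx => ?_⟩
  · rw [← RingHom.map_mulVec]; exact hmem' _ (hv i)
  · have hlc : Fintype.linearCombination B (HBLib.minor (φ.map π)) (π ∘ x) =
        π (Fintype.linearCombination A (HBLib.minor φ) x) := by
      simp [Fintype.linearCombination_apply, minor_map]
    obtain ⟨v, hv⟩ := h.2 (π ∘ x) (hlc ▸ hmem' _ hx)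
    choose v' hv' using fun j => hπ (v j)
    refine ⟨v', fun i => hmem _ ?_⟩
    rw [map_sub, RingHom.map_mulVec, show π ∘ v' = v from funext hv']
    exact hv i

end Matrix

end HBDefLib
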