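import Groth.Agent.HBDefLib.Basic
import Groth.Agent.RegUFDLib.Basic
import Groth.Agent.CommAlgDim.Regular
import Groth.Agent.CohenLib.RegularField
import Mathlib

/-! The dual of a two-step resolution, and lifting it. -/

set_option autoImplicit false
universe u v

open Matrix IsLocalRing

namespace HBDefLib

variable {R : Type v} [CommRing R] {r : ℕ}

theorem adjugate_aug (φ : Matrix (Fin (r + 1)) (Fin r) R) (c : Fin (r + 1) → R) (k : Fin (r + 1)) :
    (HBLib.aug φ c).adjugate 0 k = HBLib.minor φ k := by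
  rw [Matrix.adjugate_fin_succ_eq_det_submatrix, HBLib.minor, Fin.val_zero, add_zero]
  congr 2

theorem minor_mul_eq (φ : Matrix (Fin (r + 1)) (Fin r) R) (z : Fin (r + 1) → R) (hz : z ᵥ* φ = 0)
    (i k : Fin (r + 1)) : HBLib.minor φ i * z k = z i * HBLib.minor φ k := by
  let M := HBLib.aug φ (Pi.single i 1)
  have h1 : z ᵥ* M = Pi.single 0 (z i) := by
    funext j
    refine Fin.cases ?_ (fun j' => ?_) j
    · rw [Pi.single_eq_same, Matrix.vecMul, dotProduct, Finset.sum_eq_single i]
      · simp [M, HBLib.aug]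
      · intro a _ ha; simp [M, HBLib.aug, ha]
      · simp
    · rw [Pi.single_eq_of_ne (Fin.succ_ne_zero j')]
      refine Eq.trans ?_ (congrFun hz j')
      simp [M, HBLib.aug, Matrix.vecMul, dotProduct]
  have h2 := congrArg (fun v => (v ᵥ* M.adjugate) k) h1
  simp only [Matrix.vecMul_vecMul, Matrix.mul_adjugate, Matrix.single_vecMul] at h2
  rw [Matrix.vecMul_smul, Matrix.vecMul_one, show M.det = HBLib.minor φ i from HBLib.det_aug_single φ i] at h2
  rw [← adjugate_aug φ (Pi.single i 1) k]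
  exact h2

theorem exists_eq_mul_of_ufd [IsDomain R] [UniqueFactorizationMonoid R] (φ : Matrix (Fin (r + 1)) (Fin r) R)
    (z : Fin (r + 1) → R) (hz : z ᵥ* φ = 0) (h0 : ∃ k, HBLib.minor φ k ≠ 0)
    (hcop : ∀ q, (∀ i, q ∣ HBLib.minor φ i) → IsUnit q) : ∃ u, ∀ i, z i = u * HBLib.minor φ i := by
  obtain ⟨k, hk⟩ := h0
  obtain ⟨q, p, c, hrel, hq, hp⟩ := UniqueFactorizationMonoid.exists_reduced_factors (HBLib.minor φ k) hk (z k)
  have hc : c ≠ 0 := fun h => hk (by rw [← hq, h, zero_mul])
  have hmul : ∀ i, q * z i = p * HBLib.minor φ i := fun i => by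
    refine mul_left_cancel₀ hc ?_
    rw [← mul_assoc, ← mul_assoc, hq, hp]
    exact minor_mul_eq φ z hz k i
  obtain ⟨qu, rfl⟩ := hcop q fun i => hrel.dvd_of_dvd_mul_left ⟨z i, (hmul i).symm⟩
  exact ⟨↑qu⁻¹ * p, fun i => by rw [mul_assoc, ← hmul i, Units.inv_mul_cancel_left]⟩

theorem height_le_one_of_mem_minimalPrimes [IsNoetherianRing R] {q : R} {P : Ideal R}
    (hP : P ∈ (Ideal.span {q}).minimalPrimes) : P.height ≤ 1 :=
  Ideal.height_le_one_of_isPrincipal_of_mem_minimalPrimes _ P hP

/-- Over a regular Noetherian ring the dual of the resolution is exact. -/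
theorem dual_exact [IsNoetherianRing R] [IsRegularRing R] (φ : Matrix (Fin (r + 1)) (Fin r) R)
    (hcodim : ∀ P : Ideal R, P.IsPrime → Ideal.span (Set.range (HBLib.minor φ)) ≤ P → (2 : ℕ∞) ≤ P.height) :
    (∀ z, z ᵥ* φ = 0 → ∃ u, ∀ i, z i = u * HBLib.minor φ i) ∧
      (∀ u, (∀ i, u * HBLib.minor φ i = 0) → u = 0) := by
  classical
  have hloc : ∀ M : Ideal R, [M.IsMaximal] →
      (∃ k, algebraMap R (Localization.AtPrime M) (HBLib.minor φ k) ≠ 0) ∧
      ∀ q, (∀ i, q ∣ algebraMap R (Localization.AtPrime M) (HBLib.minor φ i)) → IsUnit q := by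
    intro M _
    haveI : IsRegularLocalRing (Localization.AtPrime M) := IsRegularRing.isRegularLocalRing_localization M
    haveI : IsDomain (Localization.AtPrime M) := CommAlgDim.isDomain_of_isRegularLocalRing _
    have key : ∀ Q : Ideal (Localization.AtPrime M), Q.IsPrime →
        (∀ i, algebraMap R (Localization.AtPrime M) (HBLib.minor φ i) ∈ Q) → Q.height ≤ 1 → False := by
      intro Q hQ hmem hh
      haveI := hQ
      have h2 := hcodim (Q.comap (algebraMap R (Localization.AtPrime M))) inferInstance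
        (Ideal.span_le.2 (Set.range_subset_iff.2 hmem))
      rw [← Ideal.under_def, IsLocalization.height_comap M.primeCompl] at h2
      exact absurd (h2.trans hh) (by decide)
    refine ⟨?_, fun q hq => ?_⟩
    · by_contra h
      push Not at h
      exact key ⊥ Ideal.isPrime_bot (fun i => by rw [h i]; exact zero_mem _)
        (by rw [Ideal.height_bot]; exact zero_le)
    · by_contra hqu
      obtain ⟨Q, hQ⟩ := Ideal.nonempty_minimalPrimes (I := Ideal.span {q})
        (fun h => hqu (Ideal.span_singleton_eq_top.1 h))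
      exact key Q hQ.1.1 (fun i => Q.mem_of_dvd (hq i) (hQ.1.2 (Ideal.mem_span_singleton_self q)))
        (height_le_one_of_mem_minimalPrimes hQ)
  refine ⟨fun z hz => ?_, fun u hu => ?_⟩
  · suffices hz' : z ∈ Submodule.span R {HBLib.minor φ} by
      obtain ⟨u, rfl⟩ := Submodule.mem_span_singleton.1 hz'
      exact ⟨u, fun i => rfl⟩
    let T : Ideal R := (Submodule.span R {HBLib.minor φ}).comap (LinearMap.toSpanSingleton R _ z)
    suffices hT : T = ⊤ by
      have h1 : (1 : R) ∈ T := hT ▸ Submodule.mem_top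
      simpa [T] using h1
    by_contra hT
    obtain ⟨M, hM, hTM⟩ := Ideal.exists_le_maximal T hT
    haveI := hM
    haveI : IsRegularLocalRing (Localization.AtPrime M) := IsRegularRing.isRegularLocalRing_localization M
    haveI : IsDomain (Localization.AtPrime M) := CommAlgDim.isDomain_of_isRegularLocalRing _
    haveI := RegUFDLib.uniqueFactorizationMonoid (Localization.AtPrime M)
    obtain ⟨h0, hcop⟩ := hloc M
    let ι := algebraMap R (Localization.AtPrime M)
    have hmin : ∀ i, HBLib.minor (φ.map ι) i = ι (HBLib.minor φ i) := congrFun (minor_map ι φ)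
    obtain ⟨w, hw⟩ := exists_eq_mul_of_ufd (φ.map ι) (ι ∘ z)
      (funext fun j => by rw [← RingHom.map_vecMul, congrFun hz j]; exact map_zero ι)
      (by simpa only [hmin] using h0) (by simpa only [hmin] using hcop)
    obtain ⟨a, s, rfl⟩ := IsLocalization.exists_mk'_eq M.primeCompl w
    have hi : ∀ i, ∃ t : M.primeCompl, (t : R) * (s * z i) = t * (a * HBLib.minor φ i) := fun i => by
      refine (IsLocalization.eq_iff_exists M.primeCompl (Localization.AtPrime M)).1 ?_
      have h := hw i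
      rw [hmin, Function.comp_apply] at h
      rw [map_mul, map_mul, h, ← mul_assoc, IsLocalization.mk'_spec']
    choose t ht using hi
    have hmem : ((∏ i, (t i : R)) * s) ∈ T := by
      show ((∏ i, (t i : R)) * s) • z ∈ Submodule.span R ({HBLib.minor φ} : Set (Fin (r + 1) → R))
      refine Submodule.mem_span_singleton.2 ⟨(∏ i, (t i : R)) * a, funext fun i => ?_⟩
      obtain ⟨d, hd⟩ : ∃ d, (∏ j, (t j : R)) = d * t i :=
        ⟨∏ j ∈ Finset.univ.erase i, (t j : R), by rw [Finset.prod_erase_mul _ _ (Finset.mem_univ i)]⟩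
      simp only [Pi.smul_apply, smul_eq_mul, hd]
      linear_combination (-d) * ht i
    have hnot : ((∏ i, (t i : R)) * s) ∈ M.primeCompl := mul_mem (prod_mem fun i _ => (t i).2) s.2
    exact hnot (hTM hmem)
  · by_contra hu0
    obtain ⟨M, hM, hle⟩ := Ideal.exists_le_maximal (LinearMap.ker (LinearMap.toSpanSingleton R R u))
      (fun h => hu0 (by simpa using (h ▸ Submodule.mem_top : (1 : R) ∈ LinearMap.ker (LinearMap.toSpanSingleton R R u))))
    haveI := hM
    haveI : IsRegularLocalRing (Localization.AtPrime M) := IsRegularRing.isRegularLocalRing_localization M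
    haveI : IsDomain (Localization.AtPrime M) := CommAlgDim.isDomain_of_isRegularLocalRing _
    obtain ⟨⟨k, hk⟩, -⟩ := hloc M
    have h := congrArg (algebraMap R (Localization.AtPrime M)) (hu k)
    rw [map_mul, map_zero] at h
    obtain ⟨⟨s, hs⟩, hsu⟩ := (IsLocalization.map_eq_zero_iff M.primeCompl _ u).1 ((mul_eq_zero.1 h).resolve_right hk)
    exact hs (hle (by simpa using hsu))

variable {C : Type u} [CommRing C] [IsLocalRing C] {A : Type v} [CommRing A] [Algebra C A]

/-- Lifting a resolution to a flat deformation of the ideal. -/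
theorem exists_lift (hnil : IsNilpotent (maximalIdeal C)) [Module.Flat C A] (J : Ideal C)
    (hJ : J ≤ maximalIdeal C) (I : Ideal A) [Module.Flat C (A ⧸ I)] (φ : Matrix (Fin (r + 1)) (Fin r) A)
    (hI : I ⊔ J.map (algebraMap C A) = Ideal.span (Set.range (HBLib.minor φ)) ⊔ J.map (algebraMap C A))
    (hex : ExactMod C φ)
    [IsRegularRing (A ⧸ (maximalIdeal C).map (algebraMap C A))]
    [IsNoetherianRing (A ⧸ (maximalIdeal C).map (algebraMap C A))]
    (hcodim : ∀ P : Ideal (A ⧸ (maximalIdeal C).map (algebraMap C A)), P.IsPrime →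
      Ideal.span (Set.range (HBLib.minor (φ.map (Ideal.Quotient.mk _)))) ≤ P → (2 : ℕ∞) ≤ P.height) :
    ∃ ψ : Matrix (Fin (r + 1)) (Fin r) A, (∀ i j, ψ i j - φ i j ∈ J.map (algebraMap C A)) ∧
      Ideal.span (Set.range (HBLib.minor ψ)) = I ∧ Function.Injective ψ.mulVecLin ∧
      LinearMap.range ψ.mulVecLin = LinearMap.ker (Fintype.linearCombination A (HBLib.minor ψ)) := by
  classical
  let JA := J.map (algebraMap C A)
  let mA := (maximalIdeal C).map (algebraMap C A)
  have hJA : JA ≤ mA := Ideal.map_mono hJ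
  obtain ⟨n, hn⟩ := hnil
  have hmA : IsNilpotent mA := ⟨n, by rw [← Ideal.map_pow, hn, Ideal.zero_eq_bot, Ideal.map_bot]; rfl⟩
  -- generators of `I`
  have hh : ∀ i, ∃ h ∈ I, h - HBLib.minor φ i ∈ JA := fun i => by
    have h1 : HBLib.minor φ i ∈ I ⊔ JA := hI ▸ Ideal.mem_sup_left (Ideal.subset_span ⟨i, rfl⟩)
    obtain ⟨a, ha, b, hb, hab⟩ := Submodule.mem_sup.1 h1
    exact ⟨a, ha, by rw [← hab]; simpa using hb⟩
  choose h hhI hhφ using hh
  have hint : ∀ (K : Ideal C) x, x ∈ I → x ∈ K.map (algebraMap C A) → x ∈ K.map (algebraMap C A) * I := by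
    intro K x hx hx'
    have h3 := DefLib.ker_inf_smul_le ((Ideal.Quotient.mkₐ C I).toLinearMap) Ideal.Quotient.mk_surjective K
      ⟨Ideal.Quotient.eq_zero_iff_mem.2 hx, (mem_smul_top_self K x).2 hx'⟩
    refine Submodule.smul_induction_on h3 (fun c hc y hy => ?_) (fun a b ha hb => add_mem ha hb)
    rw [Algebra.smul_def]
    exact Ideal.mul_mem_mul (Ideal.mem_map_of_mem _ hc) (Ideal.Quotient.eq_zero_iff_mem.1 hy)
  have hspan : Ideal.span (Set.range h) = I := by
    refine le_antisymm (Ideal.span_le.2 (Set.range_subset_iff.2 hhI)) ?_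
    have h1 : I ≤ Ideal.span (Set.range h) ⊔ mA * I := by
      intro x hx
      have h2 : x ∈ Ideal.span (Set.range h) ⊔ JA := by
        have : Ideal.span (Set.range (HBLib.minor φ)) ≤ Ideal.span (Set.range h) ⊔ JA := by
          refine Ideal.span_le.2 (Set.range_subset_iff.2 fun i => ?_)
          rw [← sub_sub_cancel (h i) (HBLib.minor φ i)]
          exact sub_mem (Ideal.mem_sup_left (Ideal.subset_span ⟨i, rfl⟩)) (Ideal.mem_sup_right (hhφ i))
        have h3 : x ∈ Ideal.span (Set.range (HBLib.minor φ)) ⊔ JA := hI ▸ Ideal.mem_sup_left hx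
        exact (sup_le this le_sup_right) h3
      obtain ⟨a, ha, b, hb, rfl⟩ := Submodule.mem_sup.1 h2
      refine add_mem (Ideal.mem_sup_left ha) (Ideal.mem_sup_right (hint _ b ?_ (hJA hb)))
      have := sub_mem hx ((Ideal.span_le.2 (Set.range_subset_iff.2 hhI)) ha)
      simpa using this
    obtain ⟨k, hk⟩ := hmA
    have key : ∀ j, I ≤ Ideal.span (Set.range h) ⊔ mA ^ j * I := by
      intro j
      induction j with
      | zero => simp
      | succ j ih =>
        refine ih.trans (sup_le le_sup_left ((Ideal.mul_mono_right h1).trans ?_))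
        rw [Ideal.mul_sup, ← mul_assoc, ← pow_succ]
        exact sup_le_sup_right Ideal.mul_le_right _
    simpa [hk] using key k
  -- correct the relations
  have hcol : ∀ j, ∃ d : Fin (r + 1) → A, (∀ i, d i ∈ JA) ∧ ∑ i, h i * φ i j = ∑ i, h i * d i := by
    intro j
    have hx : ∑ i, h i * φ i j ∈ JA := by
      rw [← Ideal.Quotient.eq_zero_iff_mem, map_sum]
      have := congrArg (Ideal.Quotient.mk JA) (congrFun (HBLib.vecMul_minor φ) j)
      rw [Pi.zero_apply, map_zero] at this
      rw [← this, Matrix.vecMul, dotProduct, map_sum]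
      refine Finset.sum_congr rfl fun i _ => ?_
      rw [map_mul, map_mul, Ideal.Quotient.eq.2 (hhφ i)]
    have h4 := hint J _ (sum_mem fun i _ => Ideal.mul_mem_right _ _ (hhI i)) hx
    rw [← hspan] at h4
    have key2 : ∀ x, x ∈ JA * Ideal.span (Set.range h) → ∃ d : Fin (r + 1) → A, (∀ i, d i ∈ JA) ∧ x = ∑ i, h i * d i := by
      intro x hx
      refine Submodule.mul_induction_on hx (fun c hc y hy => ?_) ?_
      · obtain ⟨e, rfl⟩ := Ideal.mem_span_range_iff_exists_fun.1 hy
        exact ⟨fun i => c * e i, fun i => Ideal.mul_mem_right _ _ hc,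
          by rw [Finset.mul_sum]; exact Finset.sum_congr rfl fun i _ => by ring⟩
      · rintro a b ⟨d, hd, rfl⟩ ⟨d', hd', rfl⟩
        exact ⟨d + d', fun i => add_mem (hd i) (hd' i), by simp [mul_add, Finset.sum_add_distrib]⟩
    exact key2 _ h4
  choose d hd hdsum using hcol
  let ψ : Matrix (Fin (r + 1)) (Fin r) A := Matrix.of fun i j => φ i j - d j i
  have hψφ : ∀ i j, ψ i j - φ i j ∈ JA := fun i j => by simpa [ψ] using neg_mem (hd j i)
  have hmap : ψ.map (Ideal.Quotient.mk mA) = φ.map (Ideal.Quotient.mk mA) :=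
    Matrix.ext fun i j => Ideal.Quotient.eq.2 (hJA (hψφ i j))
  have hψh : h ᵥ* ψ = 0 := funext fun j => by
    simp [ψ, Matrix.vecMul, dotProduct, mul_sub, hdsum j]
  -- the resolution
  have hexψ : ExactMod C ψ := by
    have e1 : ∀ (v : Fin r → A) i, (ψ *ᵥ v) i - (φ *ᵥ v) i ∈ mA := fun v i => by
      rw [← Ideal.Quotient.eq, RingHom.map_mulVec, RingHom.map_mulVec, hmap]
    refine ⟨fun v hv => hex.1 v fun i => ?_, fun x hx => ?_⟩
    · have := sub_mem (hv i) (e1 v i); simpa using this
    · obtain ⟨v, hv⟩ := hex.2 x (by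
        rw [← Ideal.Quotient.eq_zero_iff_mem] at hx ⊢
        rw [← hx]
        simp only [Fintype.linearCombination_apply, map_sum, smul_eq_mul, map_mul]
        refine Finset.sum_congr rfl fun i _ => ?_
        rw [← Function.comp_apply (f := Ideal.Quotient.mk mA) (g := HBLib.minor φ),
          ← Function.comp_apply (f := Ideal.Quotient.mk mA) (g := HBLib.minor ψ), ← minor_map, ← minor_map, hmap])
      exact ⟨v, fun i => by have := sub_mem (hv i) (e1 v i); simpa using this⟩
  obtain ⟨hinj, hker, -⟩ := hexψ.exact_and_flat ⟨n, hn⟩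
  -- compare with the minors
  obtain ⟨hd1, hd2⟩ := dual_exact (φ.map (Ideal.Quotient.mk mA)) hcodim
  have hq : ∀ a, Ideal.Quotient.mk mA (HBLib.minor ψ a) = HBLib.minor (φ.map (Ideal.Quotient.mk mA)) a := fun a => by
    rw [← hmap, minor_map]; rfl
  let f : A →ₗ[C] (Fin (r + 1) → A) := (LinearMap.toSpanSingleton A _ (HBLib.minor ψ)).restrictScalars C
  let g : (Fin (r + 1) → A) →ₗ[C] (Fin r → A) := (Matrix.vecMulLinear ψ).restrictScalars C
  haveI : Module.Free C A := DefLib.free_of_flat_of_nilpotent ⟨n, hn⟩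
  obtain ⟨-, hrange, -⟩ := exact_and_flat_of_mod ⟨n, hn⟩ f g
    (LinearMap.ext fun u => by
      show (u • HBLib.minor ψ) ᵥ* ψ = 0
      rw [Matrix.smul_vecMul, HBLib.vecMul_minor, smul_zero])
    (fun u hu => by
      rw [mem_smul_top_self, ← Ideal.Quotient.eq_zero_iff_mem]
      refine hd2 _ fun i => ?_
      rw [← hq, ← map_mul]
      exact Ideal.Quotient.eq_zero_iff_mem.2 ((mem_smul_top_pi _ _).1 hu i))
    (fun z hz => by
      obtain ⟨u, hu⟩ := hd1 (Ideal.Quotient.mk mA ∘ z) (funext fun j => by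
        rw [← hmap, ← RingHom.map_vecMul]
        exact Ideal.Quotient.eq_zero_iff_mem.2 ((mem_smul_top_pi _ _).1 hz j))
      obtain ⟨u, rfl⟩ := Ideal.Quotient.mk_surjective u
      refine Submodule.mem_sup.2 ⟨f u, ⟨u, rfl⟩, z - f u, (mem_smul_top_pi _ _).2 fun i => ?_, add_sub_cancel _ _⟩
      rw [← Ideal.Quotient.eq_zero_iff_mem, Pi.sub_apply, map_sub, show (f u) i = u * HBLib.minor ψ i from rfl, map_mul, hq]
      exact sub_eq_zero.2 (hu i))
  obtain ⟨u, hu⟩ : h ∈ LinearMap.range f := hrange.ge hψh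
  have hu1 : IsUnit u := by
    have h1 : u - 1 ∈ mA := by
      rw [← Ideal.Quotient.eq_zero_iff_mem]
      refine hd2 _ fun i => ?_
      rw [← hq, ← map_mul, Ideal.Quotient.eq_zero_iff_mem, sub_mul, one_mul,
        show u * HBLib.minor ψ i = h i from congrFun hu i]
      have h2 : h i - HBLib.minor ψ i = (h i - HBLib.minor φ i) - (HBLib.minor ψ i - HBLib.minor φ i) := by ring
      rw [h2]
      refine sub_mem (hJA (hhφ i)) ?_
      rw [← Ideal.Quotient.eq, hq, minor_map]; rfl
    obtain ⟨k, hk⟩ := hmA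
    have hnilp : IsNilpotent (u - 1) := ⟨k, by
      have := Ideal.pow_mem_pow h1 k
      rw [hk] at this
      exact this⟩
    simpa using hnilp.isUnit_one_add
  refine ⟨ψ, hψφ, ?_, hinj, hker⟩
  rw [← hspan]
  refine le_antisymm (Ideal.span_le.2 (Set.range_subset_iff.2 fun i => ?_)) (Ideal.span_le.2 (Set.range_subset_iff.2 fun i => ?_))
  · rw [SetLike.mem_coe, ← hu1.unit.inv_mul_cancel_left (HBLib.minor ψ i)]
    refine Ideal.mul_mem_left _ _ ?_
    rw [IsUnit.unit_spec, show u * HBLib.minor ψ i = h i from congrFun hu i]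
    exact Ideal.subset_span ⟨i, rfl⟩
  · rw [SetLike.mem_coe, ← congrFun hu i]
    exact Ideal.mul_mem_left _ _ (Ideal.subset_span ⟨i, rfl⟩)

end HBDefLib
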